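import Cfsg.Agent.Lib.RealChar.Trichotomy
import Cfsg.Agent.Lib.Char.Linear
import Cfsg.Agent.Lib.CharTools.Basic
import Mathlib.GroupTheory.FiniteAbelian.Duality
import Mathlib.RingTheory.RootsOfUnity.AlgebraicallyClosed
import Mathlib.Analysis.Complex.Polynomial.Basic
import Mathlib.GroupTheory.Nilpotent
import Mathlib.GroupTheory.SpecificGroups.Cyclic

/-!
# 2-groups whose number of involutions is 1 mod 4 (Alperin–Feit–Thompson)
-/

set_option autoImplicit false

namespace CfsgLib.TwoGroupInvol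

open scoped Classical ComplexConjugate
open Cfsg

universe u

variable {G : Type u} [Group G] [Finite G]

instance instFiniteLinear : Finite (G →* ℂˣ) := Finite.of_equiv _ CfsgLib.Char.linearCharEquiv.symm

theorem card_linear : Nat.card (G →* ℂˣ) = (commutator G).index := by
  haveI : Finite (Abelianization G) := inferInstanceAs (Finite (G ⧸ commutator G))
  obtain ⟨e⟩ := CommGroup.monoidHom_mulEquiv_of_hasEnoughRootsOfUnity (Abelianization G) ℂ
  rw [Nat.card_congr (Abelianization.lift (G := G) (A := ℂˣ)), Nat.card_congr e.toEquiv,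
    Subgroup.index_eq_card]
  rfl

theorem conj_linear (f : G →* ℂˣ) (g : G) : conj (f g : ℂ) = (f g⁻¹ : ℂ) := by
  rw [map_inv, Units.val_inv_eq_inv_val, ← Complex.inv_eq_conj]
  refine Complex.norm_eq_one_of_pow_eq_one (n := orderOf g) ?_ (orderOf_pos g).ne'
  rw [← Units.val_pow_eq_pow_val, ← map_pow, pow_orderOf_eq_one, map_one, Units.val_one]

theorem linear_real_iff (f : G →* ℂˣ) : (∀ g, ((f g : ℂ)).im = 0) ↔ f * f = 1 := by
  have key : ∀ g, ((f g : ℂ)).im = 0 ↔ f g * f g = 1 := by
    intro g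
    rw [← Complex.conj_eq_iff_im, conj_linear, map_inv, ← Units.ext_iff, inv_eq_iff_mul_eq_one]
  constructor
  · intro h; exact MonoidHom.ext fun g => (key g).1 (h g)
  · intro h g; exact (key g).2 (DFunLike.congr_fun h g)

/-- An irreducible character of degree two is fixed by at most four linear characters. -/
theorem card_le_four_of_fixing (χ : IrrCharacter G) (h2 : (χ : G → ℂ) 1 = 2)
    (A : Finset (G →* ℂˣ)) (hA : ∀ f ∈ A, ∀ g, (f g : ℂ) * (χ : G → ℂ) g = (χ : G → ℂ) g) :
    A.card ≤ 4 := by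
  haveI := Fintype.ofFinite G
  let K : Subgroup G := ⨅ f ∈ A, (f : G →* ℂˣ).ker
  have hKmem : ∀ g, g ∈ K ↔ ∀ f ∈ A, f g = 1 := fun g => by
    simp [K, Subgroup.mem_iInf, MonoidHom.mem_ker]
  haveI : K.Normal := ⟨fun g hg y => (hKmem _).2 fun f hf => by
    simp [(hKmem g).1 hg f hf]⟩
  have hvan : ∀ g, g ∉ K → (χ : G → ℂ) g = 0 := by
    intro g hg
    rw [hKmem] at hg
    push Not at hg
    obtain ⟨f, hf, hfg⟩ := hg
    have h := hA f hf g
    have h' : ((f g : ℂ) - 1) * (χ : G → ℂ) g = 0 := by rw [sub_mul, h, one_mul, sub_self]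
    exact (mul_eq_zero.1 h').resolve_left (sub_ne_zero.2 fun e => hfg (Units.ext e))
  have hidx : K.index ≤ 4 := by
    have h1 := CfsgLib.Char.classInner_irr_self χ.2
    rw [Cfsg.classInner] at h1
    simp only [Complex.mul_conj] at h1
    rw [← Complex.ofReal_sum, ← Complex.ofReal_natCast, ← Complex.ofReal_inv,
      ← Complex.ofReal_mul, Complex.ofReal_eq_one] at h1
    have hG : (0 : ℝ) < (Nat.card G : ℝ) := by exact_mod_cast (Nat.card_pos : 0 < Nat.card G)
    rw [inv_mul_eq_iff_eq_mul₀ hG.ne', mul_one] at h1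
    have h2' : ∀ g, Complex.normSq ((χ : G → ℂ) g) ≤ 4 := by
      intro g
      obtain ⟨n, ρ, -, hρ⟩ := χ.2
      obtain ⟨μ, -, hμ, -, hpow⟩ := CfsgLib.Char.exists_eigenvalues ρ g
      have hg := hpow 1
      simp only [pow_one] at hg
      have hn : ((Module.finrank ℂ (Fin n → ℂ) : ℕ) : ℂ) = 2 := by
        rw [← Representation.char_one ρ, hρ, h2]
      have hn' : Module.finrank ℂ (Fin n → ℂ) = 2 := by exact_mod_cast hn
      have hle : ‖(χ : G → ℂ) g‖ ≤ 2 := by
        rw [← hρ, hg]
        refine (norm_sum_le _ _).trans ?_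
        simp [hμ, hn']
      rw [Complex.normSq_eq_norm_sq]
      nlinarith [norm_nonneg ((χ : G → ℂ) g)]
    have h3 : (Nat.card G : ℝ) ≤ 4 * (Nat.card K : ℝ) := by
      calc (Nat.card G : ℝ) = ∑ g, Complex.normSq ((χ : G → ℂ) g) := h1.symm
        _ = ∑ g ∈ Finset.univ.filter (fun g => g ∈ K), Complex.normSq ((χ : G → ℂ) g) := by
            refine (Finset.sum_subset (Finset.filter_subset _ _) fun g _ hg => ?_).symm
            rw [hvan g (by simpa using hg)]; simp
        _ ≤ ∑ g ∈ Finset.univ.filter (fun g => g ∈ K), (4 : ℝ) := Finset.sum_le_sum fun g _ => h2' g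
        _ = _ := by
            rw [Finset.sum_const, nsmul_eq_mul, mul_comm, Nat.card_eq_fintype_card (α := K),
              Fintype.card_subtype]
    have h4 : Nat.card G ≤ 4 * Nat.card K := by exact_mod_cast h3
    rw [← K.card_mul_index, mul_comm] at h4
    exact Nat.le_of_mul_le_mul_right h4 Nat.card_pos
  let F : A → (G ⧸ K →* ℂ) := fun f => (Units.coeHom ℂ).comp
    (QuotientGroup.lift K (f : G →* ℂˣ) fun g hg => (hKmem g).1 hg f f.2)
  have hF : Function.Injective F := by
    intro f f' hff'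
    refine Subtype.ext (MonoidHom.ext fun g => Units.ext ?_)
    exact DFunLike.congr_fun hff' (QuotientGroup.mk g)
  have hli := (linearIndependent_monoidHom (G ⧸ K) ℂ).comp F hF
  haveI := Fintype.ofFinite (G ⧸ K)
  have := hli.fintype_card_le_finrank
  rw [Fintype.card_coe, Module.finrank_fintype_fun_eq_card, ← Nat.card_eq_fintype_card,
    ← Subgroup.index_eq_card] at this
  exact this.trans hidx

theorem isCyclic_of_isCyclic_linear (hG : IsPGroup 2 G) [IsCyclic (G →* ℂˣ)] : IsCyclic G := by
  haveI : Group.IsNilpotent G := hG.isNilpotent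
  haveI : Finite (Abelianization G) := inferInstanceAs (Finite (G ⧸ commutator G))
  haveI : IsCyclic (Abelianization G) := by
    obtain ⟨e⟩ := CommGroup.monoidHom_mulEquiv_of_hasEnoughRootsOfUnity (Abelianization G) ℂ
    let e₂ : (G →* ℂˣ) ≃* (Abelianization G →* ℂˣ) :=
      { (Abelianization.lift (G := G) (A := ℂˣ)) with
        map_mul' := fun a b => by
          refine Abelianization.hom_ext _ _ (MonoidHom.ext fun g => ?_)
          simp }
    exact isCyclic_of_surjective (e₂.trans e) (e₂.trans e).surjective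
  obtain ⟨a, ha⟩ := IsCyclic.exists_generator (α := Abelianization G)
  obtain ⟨g, rfl⟩ := QuotientGroup.mk_surjective a
  refine ⟨g, fun y => ?_⟩
  by_contra hy
  have hne : Subgroup.zpowers g ≠ ⊤ := fun h => hy (by
    have : y ∈ Subgroup.zpowers g := by rw [h]; trivial
    exact Subgroup.mem_zpowers_iff.1 this)
  obtain ⟨M, hM, hgM⟩ : ∃ M : Subgroup G, IsCoatom M ∧ Subgroup.zpowers g ≤ M := by
    rcases IsCoatomic.eq_top_or_exists_le_coatom (Subgroup.zpowers g) with h | h
    · exact absurd h hne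
    · exact h
  haveI hMn : M.Normal :=
    Subgroup.NormalizerCondition.normal_of_coatom M Group.normalizerCondition_of_isNilpotent hM
  have hcM : commutator G ≤ M := by
    obtain ⟨z, hz⟩ := Set.nonempty_compl.2 (show (M : Set G) ≠ Set.univ from fun h =>
      hM.1 (Subgroup.ext fun w => by simpa using Set.ext_iff.1 h w))
    have hcomap : (Subgroup.zpowers (QuotientGroup.mk' M z)).comap (QuotientGroup.mk' M) = ⊤ := by
      refine hM.2 _ (lt_of_le_of_ne ?_ ?_)
      · intro w hw
        rw [Subgroup.mem_comap, QuotientGroup.mk'_apply M w, (QuotientGroup.eq_one_iff w).2 hw]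
        exact one_mem _
      · intro h
        apply hz
        show z ∈ M
        rw [h]
        exact Subgroup.mem_zpowers _
    rw [commutator_def, Subgroup.commutator_le]
    intro a _ b _
    have hmem : ∀ w : G, QuotientGroup.mk' M w ∈ Subgroup.zpowers (QuotientGroup.mk' M z) :=
      fun w => Subgroup.mem_comap.1 (by rw [hcomap]; trivial)
    obtain ⟨i, hi⟩ := Subgroup.mem_zpowers_iff.1 (hmem a)
    obtain ⟨j, hj⟩ := Subgroup.mem_zpowers_iff.1 (hmem b)
    rw [← QuotientGroup.eq_one_iff, ← QuotientGroup.mk'_apply, map_commutatorElement, ← hi, ← hj,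
      commutatorElement_eq_one_iff_mul_comm]
    exact zpow_mul_comm _ i j
  refine hM.1 (eq_top_iff.2 fun w _ => ?_)
  obtain ⟨i, hi⟩ := Subgroup.mem_zpowers_iff.1 (ha (QuotientGroup.mk w))
  have hw : (g ^ i)⁻¹ * w ∈ commutator G := QuotientGroup.eq.1 hi
  simpa using mul_mem (hgM (zpow_mem (Subgroup.mem_zpowers g) i)) (hcM hw)

omit [Finite G] in
/-- A finite abelian 2-group with at most two square roots of one is cyclic. -/
theorem isCyclic_of_roots_le_two {L : Type*} [CommGroup L] [Fintype L] (hL : IsPGroup 2 L)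
    (h2 : (Finset.univ.filter fun f : L => f * f = 1).card ≤ 2) : IsCyclic L := by
  refine isCyclic_of_card_pow_eq_one_le fun n hn => ?_
  obtain ⟨m, hm⟩ := IsPGroup.iff_card.1 hL
  have hle : ∀ j, (Finset.univ.filter fun f : L => f ^ (2 ^ j) = 1).card ≤ 2 ^ j := by
    intro j
    induction j with
    | zero => exact (Finset.card_le_one.2 fun a ha b hb => by simp at ha hb; rw [ha, hb])
    | succ j ih =>
      calc (Finset.univ.filter fun f : L => f ^ (2 ^ (j + 1)) = 1).card
          ≤ 2 * (Finset.univ.filter fun f : L => f ^ (2 ^ j) = 1).card := by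
            refine Finset.card_le_mul_card_image_of_maps_to (f := fun f : L => f * f) ?_ 2 ?_
            · intro f hf
              simp only [Finset.mem_filter, Finset.mem_univ, true_and] at hf ⊢
              rw [← sq, ← pow_mul, ← pow_succ']
              exact hf
            · intro b _
              rcases (Finset.filter (fun a => a * a = b)
                (Finset.univ.filter fun f : L => f ^ (2 ^ (j + 1)) = 1)).eq_empty_or_nonempty
                with he | ⟨a, ha⟩
              · rw [he]; simp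
              have ha2 := (Finset.mem_filter.1 ha).2
              refine le_trans (Finset.card_le_card_of_injOn (fun c => c * a⁻¹)
                (t := Finset.univ.filter fun f : L => f * f = 1) ?_ ?_) h2
              · intro c hc
                refine Finset.mem_filter.2 ⟨Finset.mem_univ _, ?_⟩
                rw [mul_mul_mul_comm, (Finset.mem_filter.1 hc).2, ← ha2, ← mul_inv_rev,
                  mul_inv_cancel]
              · intro c _ c' _ h; exact mul_right_cancel h
        _ ≤ 2 ^ (j + 1) := by rw [pow_succ']; exact Nat.mul_le_mul_left 2 ih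
  obtain ⟨j, -, hj⟩ := (Nat.dvd_prime_pow Nat.prime_two).1
    (show Nat.gcd n (Nat.card L) ∣ 2 ^ m from hm ▸ Nat.gcd_dvd_right _ _)
  refine le_trans (le_trans (Finset.card_le_card fun f hf => ?_) (hle j))
    (hj ▸ Nat.le_of_dvd hn (Nat.gcd_dvd_left n (Nat.card L)))
  simp only [Finset.mem_filter, Finset.mem_univ, true_and] at hf ⊢
  rw [← hj, ← orderOf_dvd_iff_pow_eq_one]
  exact Nat.dvd_gcd (orderOf_dvd_of_pow_eq_one hf) (orderOf_dvd_natCard f)

omit [Finite G] in
/-- A 2-group with an element outside the square roots of one has an element of order four. -/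
theorem exists_order_four {L : Type*} [CommGroup L] (hL : IsPGroup 2 L) {f : L} (hf : f * f ≠ 1) :
    ∃ l : L, l * l ≠ 1 ∧ l * l * (l * l) = 1 := by
  obtain ⟨m, hm⟩ := hL f
  have hex : ∃ j, f ^ (2 ^ j) = 1 := ⟨m, hm⟩
  have hj := Nat.find_spec hex
  have hj2 : 2 ≤ Nat.find hex := by
    by_contra h
    refine hf ?_
    rw [← sq]
    rcases Nat.lt_or_ge (Nat.find hex) 1 with h0 | h0
    · rw [show Nat.find hex = 0 by omega] at hj; simp at hj; simp [hj]
    · rw [show Nat.find hex = 1 by omega] at hj; simpa using hj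
  refine ⟨f ^ (2 ^ (Nat.find hex - 2)), ?_, ?_⟩
  · rw [← sq, ← pow_mul, ← pow_succ]
    exact Nat.find_min hex (by omega)
  · rw [← sq, ← sq, ← pow_mul, ← pow_mul, show 2 ^ (Nat.find hex - 2) * (2 * 2) =
      2 ^ (Nat.find hex - 2 + 1 + 1) by ring,
      show Nat.find hex - 2 + 1 + 1 = Nat.find hex by omega]
    exact hj

theorem main (hG : IsPGroup 2 G) (ht : Nat.card {x : G // orderOf x = 2} % 4 = 1) :
    IsCyclic G ∨ (commutator G).index = 4 := by
  haveI := Fintype.ofFinite G
  set t := Nat.card {x : G // orderOf x = 2} with htdef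
  have hroots : Nat.card {x : G // x * x = 1} = t + 1 := by
    have hset : (Finset.univ.filter fun x : G => x * x = 1) =
        insert 1 (Finset.univ.filter fun x : G => orderOf x = 2) := by
      ext x
      simp only [Finset.mem_filter, Finset.mem_univ, true_and, Finset.mem_insert,
        orderOf_eq_prime_iff, ← sq]
      constructor
      · intro h; by_cases h1 : x = 1
        · exact Or.inl h1
        · exact Or.inr ⟨h, h1⟩
      · rintro (rfl | ⟨h, -⟩)
        · simp
        · exact h
    rw [Nat.card_eq_fintype_card, Fintype.card_subtype, hset, Finset.card_insert_of_notMem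
      (by simp), htdef, Nat.card_eq_fintype_card, Fintype.card_subtype]
  let Y := {χ : IrrCharacter G // (χ : G → ℂ) 1 = 2 ∧ ∀ g, ((χ : G → ℂ) g).im = 0}
  let R : Subgroup (G →* ℂˣ) :=
    { carrier := {f | f * f = 1}
      one_mem' := mul_one 1
      mul_mem' := fun {a b} ha hb => by
        refine MonoidHom.ext fun g => ?_
        show a g * b g * (a g * b g) = 1
        rw [mul_mul_mul_comm, show a g * a g = 1 from DFunLike.congr_fun ha g,
          show b g * b g = 1 from DFunLike.congr_fun hb g, mul_one]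
      inv_mem' := fun {a} ha => by
        refine MonoidHom.ext fun g => ?_
        show (a g)⁻¹ * (a g)⁻¹ = 1
        rw [← mul_inv_rev, show a g * a g = 1 from DFunLike.congr_fun ha g, inv_one] }
  letI : MulAction R Y :=
    { smul := fun f χ => ⟨⟨_, CfsgLib.Char.IsIrrCharacter.linear_mul χ.1.2 (f : G →* ℂˣ)⟩,
        by simp [χ.2.1], fun g => by
          have h1 := (linear_real_iff (f : G →* ℂˣ)).2 f.2 g
          simp [Complex.mul_im, h1, χ.2.2 g]⟩
      one_smul := fun χ => Subtype.ext (Subtype.ext (funext fun g => by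
        show (((1 : G →* ℂˣ)) g : ℂ) * (χ.1 : G → ℂ) g = _
        simp))
      mul_smul := fun a b χ => Subtype.ext (Subtype.ext (funext fun g => by
        show (((a : G →* ℂˣ) * (b : G →* ℂˣ)) g : ℂ) * (χ.1 : G → ℂ) g =
          ((a : G →* ℂˣ) g : ℂ) * (((b : G →* ℂˣ) g : ℂ) * (χ.1 : G → ℂ) g)
        simp [mul_assoc])) }
  have hR2 : IsPGroup 2 R := fun f => ⟨1, Subtype.ext (by
    rw [pow_one, Subgroup.coe_pow, sq, Subgroup.coe_one]; exact f.2)⟩
  -- congruence
  haveI := Fintype.ofFinite R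
  haveI := Fintype.ofFinite Y
  let w : IrrCharacter G → ZMod 4 := fun χ =>
    if (χ : G → ℂ) 1 = 1 ∧ (∀ g, ((χ : G → ℂ) g).im = 0) then 1
    else if (χ : G → ℂ) 1 = 2 ∧ (∀ g, ((χ : G → ℂ) g).im = 0) then 2 else 0
  have hcong : ((t + 1 : ℕ) : ZMod 4) = ∑ χ, w χ := by
    have hval : ∀ χ : IrrCharacter G, ∃ z : ℤ,
        CfsgLib.RealChar.fsInd (χ : G → ℂ) * (χ : G → ℂ) 1 = (z : ℂ) ∧ (z : ZMod 4) = w χ := by
      intro χ
      have hd := CfsgLib.CharTools.irr_degree_cast χ
      set d := Cfsg.charDegree (χ : G → ℂ)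
      by_cases hreal : ∀ g, ((χ : G → ℂ) g).im = 0
      swap
      · refine ⟨0, ?_, ?_⟩
        · have h0 : CfsgLib.RealChar.fsInd (χ : G → ℂ) = 0 := by
            by_contra h0
            exact hreal ((CfsgLib.RealChar.fsInd_ne_zero_iff χ.2).1 h0)
          simp [h0]
        · simp only [w]; rw [if_neg (fun h => hreal h.2), if_neg (fun h => hreal h.2)]; simp
      obtain ⟨m, hm⟩ := IsPGroup.iff_card.1 hG
      obtain ⟨k, -, hk⟩ := (Nat.dvd_prime_pow Nat.prime_two).1
        (hm ▸ CfsgLib.CharTools.degree_dvd_card χ)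
      rw [show d = 2 ^ k from hk] at hd
      rcases Nat.lt_or_ge k 2 with hk2 | hk2
      · interval_cases k
        · refine ⟨1, ?_, ?_⟩
          · obtain ⟨f, hf⟩ := CfsgLib.Char.IsCharacter.exists_linear
              (CfsgLib.Char.IsIrrCharacter.isCharacter χ.2) (by rw [← hd]; norm_num)
            have hf2 : f * f = 1 := (linear_real_iff f).1 fun g => by rw [← hf g]; exact hreal g
            have hG' : (Nat.card G : ℂ) ≠ 0 := Nat.cast_ne_zero.mpr Nat.card_pos.ne'
            have h1 : ∀ s, (χ : G → ℂ) (s * s) = 1 := fun s => by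
              rw [hf, map_mul, ← MonoidHom.mul_apply, hf2, MonoidHom.one_apply, Units.val_one]
            rw [← hd, CfsgLib.RealChar.fsInd, Finset.sum_congr rfl fun s _ => h1 s,
              Finset.sum_const, Finset.card_univ, ← Nat.card_eq_fintype_card, nsmul_eq_mul,
              mul_one, inv_mul_cancel₀ hG']
            norm_num
          · simp only [w]; rw [if_pos ⟨by rw [← hd]; norm_num, hreal⟩]; simp
        · have hne : ¬ ((χ : G → ℂ) 1 = 1) := by rw [← hd]; norm_num
          rcases CfsgLib.RealChar.fsInd_eq χ.2 with h0 | h0 | h0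
          · exact absurd h0 ((CfsgLib.RealChar.fsInd_ne_zero_iff χ.2).2 hreal)
          · refine ⟨2, by rw [h0, ← hd]; norm_num, ?_⟩
            simp only [w]; rw [if_neg (fun h => hne h.1), if_pos ⟨by rw [← hd]; norm_num, hreal⟩]
            decide
          · refine ⟨-2, by rw [h0, ← hd]; norm_num, ?_⟩
            simp only [w]; rw [if_neg (fun h => hne h.1), if_pos ⟨by rw [← hd]; norm_num, hreal⟩]
            decide
      · obtain ⟨j, rfl⟩ : ∃ j, k = 2 + j := ⟨k - 2, by omega⟩
        have hne1 : ¬ ((χ : G → ℂ) 1 = 1) := by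
          rw [← hd, Nat.cast_eq_one]
          exact (Nat.one_lt_pow (by omega) (by norm_num)).ne'
        have hne2 : ¬ ((χ : G → ℂ) 1 = 2) := by
          rw [← hd]
          intro hc
          replace hc : 2 ^ (2 + j) = 2 := by exact_mod_cast hc
          have : 2 ^ 2 ≤ 2 ^ (2 + j) := Nat.pow_le_pow_right (by norm_num) (by omega)
          omega
        have h4 : ∀ e : ℤ, ((e * 2 ^ (2 + j) : ℤ) : ZMod 4) = 0 := fun e => by
          push_cast
          rw [pow_add, show ((2 : ZMod 4) ^ 2) = 0 from rfl, zero_mul, mul_zero]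
        have hw : w χ = 0 := by
          simp only [w]; rw [if_neg (fun h => hne1 h.1), if_neg (fun h => hne2 h.1)]
        rcases CfsgLib.RealChar.fsInd_eq χ.2 with h0 | h0 | h0
        · exact ⟨0, by simp [h0], by simp [hw]⟩
        · exact ⟨1 * 2 ^ (2 + j), by rw [h0, ← hd]; push_cast; rfl, by rw [h4, hw]⟩
        · exact ⟨-1 * 2 ^ (2 + j), by rw [h0, ← hd]; push_cast; rfl, by rw [h4, hw]⟩
    choose z hz hzw using hval
    have h1 := CfsgLib.RealChar.sum_fsInd_mul_apply (1 : G)
    rw [Finset.sum_congr rfl fun χ _ => hz χ, hroots] at h1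
    have h2 : ∑ χ, z χ = ((t + 1 : ℕ) : ℤ) := by exact_mod_cast h1
    rw [← Finset.sum_congr rfl fun χ _ => hzw χ, ← Int.cast_sum, h2, Int.cast_natCast]
  have hsum : ∑ χ, w χ = (Nat.card R : ZMod 4) + 2 * (Nat.card Y : ZMod 4) := by
    simp only [w]
    rw [Finset.sum_ite, Finset.sum_ite, Finset.sum_const, Finset.sum_const, Finset.sum_const_zero,
      add_zero, nsmul_eq_mul, mul_one, nsmul_eq_mul, mul_comm _ (2 : ZMod 4)]
    congr 2
    · congr 1
      rw [← Fintype.card_subtype, ← Nat.card_eq_fintype_card]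
      refine (Nat.card_congr (Equiv.ofBijective
        (fun f : R => (⟨⟨_, CfsgLib.Char.isIrrCharacter_linear (f : G →* ℂˣ)⟩, by simp,
          (linear_real_iff (f : G →* ℂˣ)).2 f.2⟩ : {χ : IrrCharacter G //
            (χ : G → ℂ) 1 = 1 ∧ ∀ g, ((χ : G → ℂ) g).im = 0})) ⟨fun a b h => ?_, ?_⟩)).symm
      · exact Subtype.ext (MonoidHom.ext fun g => Units.ext
          (congrFun (congrArg (fun x => (x.1.1 : G → ℂ)) h) g))
      · rintro ⟨χ, h1, hr⟩
        obtain ⟨f, hf⟩ := CfsgLib.Char.IsCharacter.exists_linear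
          (CfsgLib.Char.IsIrrCharacter.isCharacter χ.2) h1
        exact ⟨⟨f, (linear_real_iff f).1 fun g => by rw [← hf g]; exact hr g⟩,
          Subtype.ext (Subtype.ext (funext fun g => (hf g).symm))⟩
    · congr 1
      rw [Finset.filter_filter, Nat.card_eq_fintype_card, Fintype.card_subtype]
      congr 1
      ext χ
      simp only [Finset.mem_filter, Finset.mem_univ, true_and]
      exact ⟨fun h => h.2, fun h => ⟨fun h' => by
        have := h'.1.symm.trans h.1; norm_num at this, h⟩⟩
  rw [hsum] at hcong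
  have hfour : ((t + 1 : ℕ) : ZMod 4) = 2 := by
    rw [← ZMod.natCast_mod, Nat.add_mod, ht]; rfl
  rw [hfour] at hcong
  have hYeven : Nat.card Y % 2 = 0 → (Nat.card R : ZMod 4) = 2 := by
    intro h
    rw [← Nat.div_add_mod (Nat.card Y) 2, h, add_zero, Nat.cast_mul, ← mul_assoc,
      show ((2 : ZMod 4) * ((2 : ℕ) : ZMod 4)) = 0 from rfl, zero_mul, add_zero] at hcong
    exact hcong.symm
  obtain ⟨d, hd⟩ := IsPGroup.iff_card.1 hR2
  have hL2 : IsPGroup 2 (G →* ℂˣ) := fun f => by
    obtain ⟨m, hm⟩ := IsPGroup.iff_card.1 hG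
    refine ⟨m, MonoidHom.ext fun g => ?_⟩
    rw [MonoidHom.pow_apply, ← map_pow, ← hm, pow_card_eq_one', map_one, MonoidHom.one_apply]
  rcases Nat.lt_or_ge d 2 with hd2 | hd2
  · left
    haveI := Fintype.ofFinite (G →* ℂˣ)
    haveI : IsCyclic (G →* ℂˣ) := isCyclic_of_roots_le_two hL2 (by
      rw [← Fintype.card_subtype, ← Nat.card_eq_fintype_card]
      show Nat.card R ≤ 2
      rw [hd]
      interval_cases d <;> norm_num)
    exact isCyclic_of_isCyclic_linear hG
  right
  have hpar : Nat.card Y % 2 = Nat.card (MulAction.fixedPoints R Y) % 2 :=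
    hR2.card_modEq_card_fixedPoints Y
  have hfix : ∀ χ : Y, χ ∈ MulAction.fixedPoints R Y → ∀ f ∈ R, ∀ g,
      ((f : G →* ℂˣ) g : ℂ) * (χ.1 : G → ℂ) g = (χ.1 : G → ℂ) g := fun χ hχ f hf g =>
    congrFun (congrArg (fun x : Y => (x.1 : G → ℂ)) (hχ ⟨f, hf⟩)) g
  have hd2' : d = 2 := by
    by_contra hne
    have hempty : MulAction.fixedPoints R Y = ∅ := by
      rw [Set.eq_empty_iff_forall_notMem]
      intro χ hχ
      have h := card_le_four_of_fixing χ.1 χ.2.1 (Finset.univ.map ⟨fun f : R => (f : G →* ℂˣ),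
        Subtype.val_injective⟩) (fun f hf => by
          obtain ⟨f', -, rfl⟩ := Finset.mem_map.1 hf
          exact hfix χ hχ _ f'.2)
      rw [Finset.card_map, Finset.card_univ, ← Nat.card_eq_fintype_card, hd] at h
      have : 2 ^ 3 ≤ 2 ^ d := Nat.pow_le_pow_right (by norm_num) (by omega)
      omega
    rw [hempty] at hpar
    have h2 := hYeven (by simpa using hpar)
    rw [hd, show d = 2 + (d - 2) by omega, Nat.cast_pow, pow_add] at h2
    rw [show ((2 : ℕ) : ZMod 4) ^ 2 = 0 from rfl, zero_mul] at h2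
    exact absurd h2 (by decide)
  subst hd2'
  rw [← card_linear]
  by_contra hne
  -- a linear character of order four
  obtain ⟨l, hl, hl2⟩ : ∃ l : G →* ℂˣ, l * l ≠ 1 ∧ l * l * (l * l) = 1 := by
    obtain ⟨f, hf⟩ : ∃ f : G →* ℂˣ, f ∉ R := by
      by_contra hall
      push Not at hall
      exact hne (by rw [← Subgroup.card_top, ← show R = ⊤ from eq_top_iff.2 fun f _ => hall f, hd]; norm_num)
    exact exists_order_four hL2 (f := f) hf
  let ι : MulAction.fixedPoints R Y → MulAction.fixedPoints R Y := fun χ =>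
    ⟨⟨⟨_, CfsgLib.Char.IsIrrCharacter.linear_mul χ.1.1.2 l⟩, by simp [χ.1.2.1], fun g => by
      rw [← Complex.conj_eq_iff_im, map_mul, conj_linear, map_inv,
        Complex.conj_eq_iff_im.2 (χ.1.2.2 g)]
      have h := hfix χ.1 χ.2 (l * l) hl2 g
      rw [MonoidHom.mul_apply, Units.val_mul] at h
      have h0 : (l g : ℂ) ≠ 0 := Units.ne_zero _
      rw [Units.val_inv_eq_inv_val, inv_mul_eq_iff_eq_mul₀ h0, ← mul_assoc]
      exact h.symm⟩,
     fun f => Subtype.ext (Subtype.ext (funext fun g => by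
      show ((f : G →* ℂˣ) g : ℂ) * ((l g : ℂ) * (χ.1.1 : G → ℂ) g) = (l g : ℂ) * (χ.1.1 : G → ℂ) g
      rw [mul_left_comm, hfix χ.1 χ.2 _ f.2 g]))⟩
  have hinv : ∀ χ, ι (ι χ) = χ := fun χ => Subtype.ext (Subtype.ext (Subtype.ext (funext fun g => by
    show (l g : ℂ) * ((l g : ℂ) * (χ.1.1 : G → ℂ) g) = _
    have h := hfix χ.1 χ.2 (l * l) hl2 g
    rw [MonoidHom.mul_apply, Units.val_mul] at h
    rw [← mul_assoc, h])))
  have hnofix : ∀ χ, ι χ ≠ χ := by
    intro χ hχ
    have hl0 : l ∉ R := hl
    have h := card_le_four_of_fixing χ.1.1 χ.1.2.1 (insert l (Finset.univ.map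
      ⟨fun f : R => (f : G →* ℂˣ), Subtype.val_injective⟩)) (fun f hf => by
        rcases Finset.mem_insert.1 hf with rfl | hf
        · exact fun g => congrFun (congrArg (fun x : MulAction.fixedPoints R Y =>
            (x.1.1 : G → ℂ)) hχ) g
        · obtain ⟨f', -, rfl⟩ := Finset.mem_map.1 hf
          exact hfix χ.1 χ.2 _ f'.2)
    rw [Finset.card_insert_of_notMem (fun hm => by
      obtain ⟨f', -, hf'⟩ := Finset.mem_map.1 hm
      exact hl0 (hf' ▸ f'.2)), Finset.card_map, Finset.card_univ, ← Nat.card_eq_fintype_card,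
      hd] at h
    norm_num at h
  haveI := Fintype.ofFinite (MulAction.fixedPoints R Y)
  have heven : ((Nat.card (MulAction.fixedPoints R Y) : ℕ) : ZMod 2) = 0 := by
    rw [Nat.card_eq_fintype_card, ← Finset.card_univ, Finset.card_eq_sum_ones, Nat.cast_sum]
    refine Finset.sum_involution (fun χ _ => ι χ) (fun _ _ => by decide) (fun χ _ _ => hnofix χ)
      (fun _ _ => Finset.mem_univ _) (fun χ _ => hinv χ)
  rw [ZMod.natCast_eq_zero_iff_even, Nat.even_iff] at heven
  have h2 := hYeven (hpar.trans heven)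
  rw [hd] at h2
  exact absurd h2 (by decide)

end CfsgLib.TwoGroupInvol
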